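import Mathlib
import Groth.Agent.H22Alg.FiniteLength

/-! Relative index of two submodules. -/

set_option autoImplicit false

universe u v

namespace Groth.Agent.H11CycDet

variable {R : Type u} [CommRing R] {V : Type v} [AddCommGroup V] [Module R V]

/-- The length of `A / (C ⊓ A)`. -/
noncomputable def dl (C A : Submodule R V) : ℕ∞ := Module.length R (↥A ⧸ C.submoduleOf A)

theorem dl_inf (C A : Submodule R V) : dl (C ⊓ A) A = dl C A := by
  unfold dl
  refine (Submodule.quotEquivOfEq _ _ ?_).length_eq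
  ext x
  simp [Submodule.submoduleOf]

theorem dl_sup (C A : Submodule R V) : dl C (C ⊔ A) = dl C A := by
  unfold dl
  rw [sup_comm]
  refine ((LinearMap.quotientInfEquivSupQuotient A C).symm.trans (Submodule.quotEquivOfEq _ _ ?_)).length_eq
  ext x
  simp [Submodule.submoduleOf]

theorem dl_eq_zero {C A : Submodule R V} (h : A ≤ C) : dl C A = 0 := by
  unfold dl
  rw [Module.length_eq_zero_iff]
  exact Submodule.Quotient.subsingleton_iff.mpr (Submodule.submoduleOf_eq_top.mpr h)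

theorem dl_self (A : Submodule R V) : dl A A = 0 := dl_eq_zero le_rfl

theorem dl_add {C B A : Submodule R V} (h₁ : C ≤ B) (h₂ : B ≤ A) : dl C A = dl C B + dl B A := by
  unfold dl
  let f : (↥B ⧸ C.submoduleOf B) →ₗ[R] (↥A ⧸ C.submoduleOf A) :=
    (C.submoduleOf B).mapQ _ (Submodule.inclusion h₂) fun x hx => hx
  let g : (↥A ⧸ C.submoduleOf A) →ₗ[R] (↥A ⧸ B.submoduleOf A) := Submodule.factor fun x hx => h₁ hx
  refine Module.length_eq_add_of_exact f g ?_ (Submodule.factor_surjective _) ?_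
  · rw [← LinearMap.ker_eq_bot, LinearMap.ker_eq_bot']
    intro z hz
    obtain ⟨x, rfl⟩ := Submodule.Quotient.mk_surjective _ z
    exact (Submodule.Quotient.mk_eq_zero _).mpr (show (Submodule.inclusion h₂ x : V) ∈ C from
      (Submodule.Quotient.mk_eq_zero (C.submoduleOf A) (x := Submodule.inclusion h₂ x)).mp hz)
  · intro z
    obtain ⟨x, rfl⟩ := Submodule.Quotient.mk_surjective _ z
    refine ⟨fun hz => ?_, ?_⟩
    · exact ⟨Submodule.Quotient.mk ⟨x.1, (Submodule.Quotient.mk_eq_zero (B.submoduleOf A) (x := x)).mp hz⟩, rfl⟩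
    · rintro ⟨y, hy⟩
      obtain ⟨y, rfl⟩ := Submodule.Quotient.mk_surjective _ y
      rw [← hy]
      exact (Submodule.Quotient.mk_eq_zero _).mpr y.2

theorem dl_split (W : Submodule R V) {C A : Submodule R V} (h : C ≤ A) :
    dl C A = dl (C ⊓ W) (A ⊓ W) + dl (C ⊔ W) (A ⊔ W) := by
  rw [dl_add (B := C ⊔ A ⊓ W) le_sup_left (sup_le h inf_le_left), dl_sup]
  congr 1
  · rw [← dl_inf C, ← dl_inf (C ⊓ W)]
    congr 1
    rw [inf_comm A W, ← inf_assoc, ← inf_assoc]
    simp [inf_comm, inf_left_comm]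
  · have h1 : (C ⊔ W) ⊔ A = A ⊔ W := by
      rw [sup_right_comm, sup_eq_right.mpr h]
    rw [← h1, dl_sup, ← dl_inf (C ⊔ W)]
    congr 1
    rw [sup_inf_assoc_of_le W h, inf_comm]

theorem add_ne_top' {a b : ℕ∞} : a + b ≠ ⊤ ↔ a ≠ ⊤ ∧ b ≠ ⊤ := WithTop.add_ne_top

theorem dl_inf_ne_top {A B D : Submodule R V} (hBD : dl (B ⊓ D) B ≠ ⊤) : dl (A ⊓ B ⊓ D) (A ⊓ B) ≠ ⊤ := by
  rw [inf_comm, dl_inf] at hBD
  rw [inf_comm (A ⊓ B) D, dl_inf]
  have h1 := dl_add (C := D ⊓ B) (B := (D ⊓ B) ⊔ A ⊓ B) (A := B) le_sup_left (sup_le inf_le_right inf_le_right)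
  rw [dl_inf, dl_sup] at h1
  have h2 : dl (D ⊓ B) (A ⊓ B) = dl D (A ⊓ B) := by
    rw [← dl_inf (D ⊓ B), ← dl_inf D]
    congr 1
    simp [inf_comm, inf_left_comm, inf_assoc]
  rw [h1, h2, add_ne_top'] at hBD
  exact hBD.1

/-- Both quotients by the intersection have finite length. -/
def Comm (A B : Submodule R V) : Prop := dl B A ≠ ⊤ ∧ dl A B ≠ ⊤

theorem Comm.symm {A B : Submodule R V} (h : Comm A B) : Comm B A := ⟨h.2, h.1⟩

theorem Comm.refl (A : Submodule R V) : Comm A A := ⟨by simp [dl_self], by simp [dl_self]⟩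

theorem Comm.trans_left {A B D : Submodule R V} (h : Comm A B) (h' : Comm B D) :
    dl (A ⊓ B ⊓ D) A ≠ ⊤ := by
  rw [dl_add (B := A ⊓ B) inf_le_left inf_le_left, add_ne_top']
  refine ⟨dl_inf_ne_top ?_, ?_⟩
  · rw [inf_comm, dl_inf]; exact h'.1
  · rw [inf_comm, dl_inf]; exact h.1

theorem Comm.trans {A B D : Submodule R V} (h : Comm A B) (h' : Comm B D) : Comm A D := by
  have key : ∀ {A B D : Submodule R V}, Comm A B → Comm B D → dl D A ≠ ⊤ := by
    intro A B D h h'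
    have h1 := h.trans_left h'
    rw [dl_add (B := D ⊓ A) (le_inf inf_le_right (inf_le_left.trans inf_le_left)) inf_le_right,
      add_ne_top', dl_inf] at h1
    exact h1.2
  exact ⟨key h h', key h'.symm h.symm⟩

/-- The relative index `[A : B]`. -/
noncomputable def ind (A B : Submodule R V) : ℤ := ((dl B A).toNat : ℤ) - ((dl A B).toNat : ℤ)

theorem ind_symm (A B : Submodule R V) : ind B A = - ind A B := by simp [ind]

theorem ind_self (A : Submodule R V) : ind A A = 0 := by simp [ind]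

theorem ind_of_le {A B : Submodule R V} (h : B ≤ A) : ind A B = ((dl B A).toNat : ℤ) := by
  simp [ind, dl_eq_zero h]

theorem ind_eq {A B C : Submodule R V} (hA : C ≤ A) (hB : C ≤ B) (fA : dl C A ≠ ⊤) (fB : dl C B ≠ ⊤) :
    Comm A B ∧ ind A B = ((dl C A).toNat : ℤ) - ((dl C B).toNat : ℤ) := by
  have h1 : dl C A = dl C (A ⊓ B) + dl B A := by
    rw [dl_add (B := A ⊓ B) (le_inf hA hB) inf_le_left]
    congr 1
    rw [inf_comm, dl_inf]
  have h2 : dl C B = dl C (A ⊓ B) + dl A B := by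
    rw [dl_add (B := A ⊓ B) (le_inf hA hB) inf_le_right, dl_inf]
  rw [h1, add_ne_top'] at fA
  rw [h2, add_ne_top'] at fB
  refine ⟨⟨fA.2, fB.2⟩, ?_⟩
  rw [h1, h2, ENat.toNat_add fA.1 fA.2, ENat.toNat_add fB.1 fB.2, ind]
  push_cast
  ring

theorem ind_trans {A B D : Submodule R V} (h : Comm A B) (h' : Comm B D) :
    ind A D = ind A B + ind B D := by
  have fA : dl (A ⊓ B ⊓ D) A ≠ ⊤ := h.trans_left h'
  have fD : dl (A ⊓ B ⊓ D) D ≠ ⊤ := by
    have := h'.symm.trans_left h.symm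
    rwa [show D ⊓ B ⊓ A = A ⊓ B ⊓ D by simp [inf_comm, inf_left_comm]] at this
  have fB : dl (A ⊓ B ⊓ D) B ≠ ⊤ := by
    rw [dl_add (B := A ⊓ B) inf_le_left inf_le_right, add_ne_top']
    refine ⟨dl_inf_ne_top ?_, ?_⟩
    · rw [inf_comm, dl_inf]; exact h'.1
    · rw [dl_inf]; exact h.2
  rw [(ind_eq (inf_le_left.trans inf_le_left) inf_le_right fA fD).2,
    (ind_eq (inf_le_left.trans inf_le_left) (inf_le_left.trans inf_le_right) fA fB).2,
    (ind_eq (inf_le_left.trans inf_le_right) inf_le_right fB fD).2]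
  ring

theorem ind_split (W : Submodule R V) {A B : Submodule R V} (h : Comm A B) :
    ind A B = ind (A ⊓ W) (B ⊓ W) + ind (A ⊔ W) (B ⊔ W) := by
  have fA : dl (A ⊓ B) A ≠ ⊤ := by rw [inf_comm, dl_inf]; exact h.1
  have fB : dl (A ⊓ B) B ≠ ⊤ := by rw [dl_inf]; exact h.2
  rw [(ind_eq inf_le_left inf_le_right fA fB).2]
  have sA := dl_split W (show A ⊓ B ≤ A from inf_le_left)
  have sB := dl_split W (show A ⊓ B ≤ B from inf_le_right)
  rw [sA, add_ne_top'] at fA
  rw [sB, add_ne_top'] at fB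
  rw [(ind_eq (inf_le_inf_right W inf_le_left) (inf_le_inf_right W inf_le_right) fA.1 fB.1).2,
    (ind_eq (sup_le_sup_right inf_le_left W) (sup_le_sup_right inf_le_right W) fA.2 fB.2).2,
    sA, sB, ENat.toNat_add fA.1 fA.2, ENat.toNat_add fB.1 fB.2]
  push_cast
  ring

/-- A finitely generated submodule has finite index over any submodule that spans it up to
localization at a prime of coheight one. -/
theorem dl_ne_top [IsNoetherianRing R] [IsLocalRing R] (q : Ideal R) [q.IsPrime]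
    (hq : ringKrullDim (R ⧸ q) = 1) {K B : Submodule R V} (hK : K.FG) (n : ℕ)
    (hn : ∀ r ∈ q ^ n, ∀ v : V, r • v = 0) (h : ∀ v ∈ K, ∃ s ∉ q, s • v ∈ B) : dl B K ≠ ⊤ := by
  haveI : Module.Finite R ↥K := Module.Finite.iff_fg.mpr hK
  refine H22Alg.length_ne_top_of_support_maximal fun p hp => ?_
  obtain ⟨z, hz⟩ := Module.mem_support_iff'.mp hp
  obtain ⟨x, rfl⟩ := Submodule.Quotient.mk_surjective _ z
  obtain ⟨s, hs, hsx⟩ := h x.1 x.2
  have h1 : s ∈ p.asIdeal := by
    by_contra hsp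
    exact hz s hsp ((Submodule.Quotient.mk_eq_zero _).mpr hsx)
  have h2 : q ^ n ≤ p.asIdeal := fun r hr => by
    by_contra hrp
    refine hz r hrp ?_
    rw [← Submodule.Quotient.mk_smul, show r • x = 0 from Subtype.ext (hn r hr x.1), Submodule.Quotient.mk_zero]
  have h3 : q < p.asIdeal := lt_of_le_of_ne (Ideal.IsPrime.le_of_pow_le h2) fun e => hs (e ▸ h1)
  haveI : Ring.KrullDimLE 1 (R ⧸ q) := Ring.krullDimLE_iff.mpr hq.le
  have hbot : (p.asIdeal.map (Ideal.Quotient.mk q)) ≠ ⊥ := by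
    rw [Ne, Ideal.map_eq_bot_iff_le_ker, Ideal.mk_ker]
    exact not_le_of_gt h3
  haveI : (p.asIdeal.map (Ideal.Quotient.mk q)).IsPrime :=
    Ideal.map_isPrime_of_surjective Ideal.Quotient.mk_surjective (by rw [Ideal.mk_ker]; exact h3.le)
  have hmax : (p.asIdeal.map (Ideal.Quotient.mk q)).IsMaximal :=
    ((Ring.krullDimLE_one_iff_of_isPrime_bot (R := R ⧸ q)).mp inferInstance) _ hbot inferInstance
  have hc := Ideal.comap_map_of_surjective (Ideal.Quotient.mk q) Ideal.Quotient.mk_surjective p.asIdeal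
  rw [← RingHom.ker_eq_comap_bot, Ideal.mk_ker, sup_eq_left.mpr h3.le] at hc
  rw [← hc]
  exact Ideal.comap_isMaximal_of_surjective _ Ideal.Quotient.mk_surjective

end Groth.Agent.H11CycDet
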