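import Groth.Agent.H11CycDet.Index
import Groth.Agent.H1CAlg.CycDetNonzero
import Groth.Agent.H22Alg.OrdFrac
import Groth.Agent.H3CAlg.Recip.Assemble
import Groth.Prelude.Def_Tame

/-! The index of a lattice relative to admissible tuples, and its behaviour on symbols. -/

set_option autoImplicit false
set_option linter.unusedSectionVars false
set_option linter.style.haveILetI false

universe u

namespace Groth.Agent.H11CycDet

open CycDet Groth.Agent.H1CAlg.CycSym IsLocalRing

variable {R : Type u} [CommRing R] (q : Ideal R) [q.IsPrime] {V : Type u} [AddCommGroup V] [Module R V]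
  [Module (Localization.AtPrime q) V] [IsScalarTower R (Localization.AtPrime q) V]

/-- The localized span of the entries before `i`, as a submodule over the base ring. -/
noncomputable def vb {l : ℕ} (e : Fin l → V) (i : ℕ) : Submodule R V :=
  (spanBefore (Localization.AtPrime q) V e i).restrictScalars R

/-- The step of the standard lattice of a tuple. -/
noncomputable def stdStep {l : ℕ} (e : Fin l → V) (i : Fin l) : Submodule R V :=
  vb q e i ⊔ Submodule.span R {e i}

/-- The step of a lattice in the flag of a tuple. -/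
noncomputable def latStep (Λ : Submodule R V) {l : ℕ} (e : Fin l → V) (i : Fin l) : Submodule R V :=
  (Λ ⊓ vb q e ((i : ℕ) + 1)) ⊔ vb q e i

/-- The index of a lattice relative to a tuple. -/
noncomputable def psi (Λ : Submodule R V) {l : ℕ} (e : Fin l → V) : ℤ :=
  ∑ i : Fin l, ind (latStep q Λ e i) (stdStep q e i)

theorem dl_sup_right {C W K : Submodule R V} (h : W ≤ C) : dl C (W ⊔ K) = dl C K := by
  rw [← dl_sup C (W ⊔ K), ← dl_sup C K]
  congr 1
  rw [← sup_assoc, sup_eq_left.mpr h]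

/-- The hypotheses on the lattice. -/
structure IsLattice (Λ : Submodule R V) : Prop where
  fg : Λ.FG
  spans : ∀ v : V, ∃ s ∉ q, s • v ∈ Λ
  nil : ∃ n : ℕ, ∀ r ∈ q ^ n, ∀ v : V, r • v = 0

theorem exists_num (c : Localization.AtPrime q) : ∃ r : R, ∃ s ∉ q, ∀ v : V, s • (c • v) = r • v := by
  obtain ⟨r, s, rfl⟩ := IsLocalization.exists_mk'_eq q.primeCompl c
  refine ⟨r, s.1, s.2, fun v => ?_⟩
  rw [← algebraMap_smul (Localization.AtPrime q) (s : R), ← algebraMap_smul (Localization.AtPrime q) r, smul_smul,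
    mul_comm, IsLocalization.mk'_spec]

theorem isUnit_algebraMap {r : R} (hr : r ∉ q) : IsUnit (algebraMap R (Localization.AtPrime q) r) :=
  IsLocalization.map_units (Localization.AtPrime q) (⟨r, hr⟩ : q.primeCompl)

theorem mem_of_smul_mem {l : ℕ} (e : Fin l → V) {i : ℕ} {r : R} (hr : r ∉ q) {v : V}
    (h : r • v ∈ vb q e i) : v ∈ vb q e i := by
  have h' : algebraMap R (Localization.AtPrime q) r • v ∈ spanBefore (Localization.AtPrime q) V e i := by
    rw [algebraMap_smul]; exact h
  exact (Submodule.smul_mem_iff_of_isUnit _ (isUnit_algebraMap q hr)).mp h'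

theorem smul_mem_vb {l : ℕ} (e : Adm (Localization.AtPrime q) V l) (i : Fin l) {r : R} (hr : r ∈ q) :
    r • e.1 i ∈ vb q e.1 i := by
  show r • e.1 i ∈ spanBefore (Localization.AtPrime q) V e.1 i
  rw [← algebraMap_smul (Localization.AtPrime q) r]
  exact e.2 i _ ((IsLocalization.AtPrime.to_map_mem_maximal_iff _ q r).mpr hr)

theorem vb_mono {l : ℕ} (e : Fin l → V) {i j : ℕ} (h : i ≤ j) : vb q e i ≤ vb q e j :=
  fun _ hv => spanBefore_mono e h hv

theorem mem_vb_succ {l : ℕ} (e : Fin l → V) (i : Fin l) {v : V} :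
    v ∈ vb q e ((i : ℕ) + 1) ↔ ∃ p ∈ vb q e i, ∃ c : Localization.AtPrime q, p + c • e i = v := by
  show v ∈ spanBefore (Localization.AtPrime q) V e ((i : ℕ) + 1) ↔ _
  rw [spanBefore_succ, Submodule.mem_sup]
  constructor
  · rintro ⟨p, hp, w, hw, rfl⟩
    obtain ⟨c, rfl⟩ := Submodule.mem_span_singleton.mp hw
    exact ⟨p, hp, c, rfl⟩
  · rintro ⟨p, hp, c, rfl⟩
    exact ⟨p, hp, _, Submodule.mem_span_singleton.mpr ⟨c, rfl⟩, rfl⟩

theorem self_mem_vb {l : ℕ} (e : Fin l → V) (i : Fin l) : e i ∈ vb q e ((i : ℕ) + 1) :=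
  mem_spanBefore e (Nat.lt_succ_self _)

variable [IsNoetherianRing R] [IsLocalRing R] (hq : ringKrullDim (R ⧸ q) = 1)

include hq in
theorem comm_of_spans {n : ℕ} (hn : ∀ r ∈ q ^ n, ∀ v : V, r • v = 0) (W : Submodule R V)
    {K K' : Submodule R V} (hK : K.FG) (hK' : K'.FG) (h : ∀ v ∈ K, ∃ s ∉ q, s • v ∈ W ⊔ K')
    (h' : ∀ v ∈ K', ∃ s ∉ q, s • v ∈ W ⊔ K) : Comm (W ⊔ K) (W ⊔ K') := by
  have key : ∀ {K K' : Submodule R V}, K.FG → (∀ v ∈ K, ∃ s ∉ q, s • v ∈ W ⊔ K') →
      dl (W ⊔ K') (W ⊔ K) ≠ ⊤ := by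
    intro K K' hK h
    have h1 : dl (W ⊔ K') (W ⊔ K) = dl (W ⊔ K') K := dl_sup_right le_sup_left
    rw [h1]
    exact dl_ne_top q hq hK n hn h
  exact ⟨key hK h, key hK' h'⟩

theorem fg_inf {Λ : Submodule R V} (hΛ : IsLattice q Λ) (W : Submodule R V) : (Λ ⊓ W).FG := by
  haveI := isNoetherian_of_fg_of_noetherian Λ hΛ.fg
  have h := (IsNoetherian.noetherian ((Λ ⊓ W).submoduleOf Λ)).map Λ.subtype
  rwa [Submodule.submoduleOf, Submodule.map_comap_subtype, ← inf_assoc, inf_idem] at h

include hq in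
theorem comm_step {Λ : Submodule R V} (hΛ : IsLattice q Λ) {l : ℕ} (e : Fin l → V) (i : Fin l) :
    Comm (latStep q Λ e i) (stdStep q e i) := by
  obtain ⟨n, hn⟩ := hΛ.nil
  rw [latStep, stdStep, sup_comm]
  refine comm_of_spans q hq hn _ (fg_inf q hΛ _) (Submodule.fg_span_singleton _) ?_ ?_
  · rintro v ⟨-, hv⟩
    obtain ⟨p, hp, c, rfl⟩ := (mem_vb_succ q e i).mp hv
    obtain ⟨r, s, hs, hrs⟩ := exists_num q (V := V) c
    refine ⟨s, hs, ?_⟩
    rw [smul_add, hrs]
    exact add_mem (Submodule.mem_sup_left ((vb q e i).smul_mem s hp))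
      (Submodule.mem_sup_right (Submodule.smul_mem _ r (Submodule.mem_span_singleton_self _)))
  · intro v hv
    obtain ⟨r, rfl⟩ := Submodule.mem_span_singleton.mp hv
    obtain ⟨s, hs, hsv⟩ := hΛ.spans (e i)
    refine ⟨s, hs, Submodule.mem_sup_right ?_⟩
    rw [smul_comm]
    exact Submodule.smul_mem _ r ⟨hsv, (vb q e _).smul_mem s (self_mem_vb q e i)⟩

include hq in
theorem dl_smul {n : ℕ} (hn : ∀ r ∈ q ^ n, ∀ v : V, r • v = 0) (W : Submodule R V) (w : V)
    (hsat : ∀ r ∉ q, r • w ∉ W) (hqw : ∀ r ∈ q, r • w ∈ W) (r : R) (hr : r ∉ q) :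
    dl (W ⊔ Submodule.span R {r • w}) (W ⊔ Submodule.span R {w}) = Ring.ord (R ⧸ q) (Ideal.Quotient.mk q r) ∧
      dl (W ⊔ Submodule.span R {r • w}) (W ⊔ Submodule.span R {w}) ≠ ⊤ := by
  have h1 : dl (W ⊔ Submodule.span R {r • w}) (W ⊔ Submodule.span R {w}) =
      dl (W ⊔ Submodule.span R {r • w}) (Submodule.span R {w}) := dl_sup_right le_sup_left
  refine ⟨?_, h1 ▸ dl_ne_top q hq (Submodule.fg_span_singleton _) n hn (fun v hv => ?_)⟩
  · rw [h1, dl]
    let f : R →ₗ[R] ↥(Submodule.span R {w}) ⧸ (W ⊔ Submodule.span R {r • w}).submoduleOf (Submodule.span R {w}) :=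
      LinearMap.toSpanSingleton R _ (Submodule.Quotient.mk ⟨w, Submodule.mem_span_singleton_self w⟩)
    have hf : Function.Surjective f := by
      intro z
      obtain ⟨⟨x, hx⟩, rfl⟩ := Submodule.Quotient.mk_surjective _ z
      obtain ⟨c, rfl⟩ := Submodule.mem_span_singleton.mp hx
      exact ⟨c, rfl⟩
    let g : R →ₗ[R] (R ⧸ q) ⧸ Ideal.span {Ideal.Quotient.mk q r} :=
      ((Ideal.span {Ideal.Quotient.mk q r}).mkQ.restrictScalars R).comp (Ideal.Quotient.mkₐ R q).toLinearMap
    have hg : Function.Surjective g :=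
      (Submodule.mkQ_surjective _).comp Ideal.Quotient.mk_surjective
    have hker : LinearMap.ker f = LinearMap.ker g := by
      ext x
      show f x = 0 ↔ g x = 0
      refine (Submodule.Quotient.mk_eq_zero ((W ⊔ Submodule.span R {r • w}).submoduleOf (Submodule.span R {w}))
        (x := x • (⟨w, Submodule.mem_span_singleton_self w⟩ : Submodule.span R {w}))).trans ?_
      refine Iff.trans ?_ ((Submodule.Quotient.mk_eq_zero (Ideal.span {Ideal.Quotient.mk q r})
        (x := Ideal.Quotient.mk q x))).symm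
      rw [Ideal.mem_span_singleton']
      show x • w ∈ W ⊔ Submodule.span R {r • w} ↔ _
      rw [Submodule.mem_sup]
      constructor
      · rintro ⟨p, hp, z, hz, hpz⟩
        obtain ⟨y, rfl⟩ := Submodule.mem_span_singleton.mp hz
        refine ⟨Ideal.Quotient.mk q y, ?_⟩
        rw [← map_mul, Ideal.Quotient.eq]
        by_contra hne
        refine hsat _ hne ?_
        rw [sub_smul, mul_smul, ← hpz, sub_add_cancel_right]
        exact neg_mem hp
      · rintro ⟨y, hy⟩
        obtain ⟨y, rfl⟩ := Ideal.Quotient.mk_surjective y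
        rw [← map_mul, Ideal.Quotient.eq] at hy
        refine ⟨-((y * r - x) • w), neg_mem (hqw _ hy), (y * r) • w,
          Submodule.mem_span_singleton.mpr ⟨y, (mul_smul y r w).symm⟩, ?_⟩
        rw [sub_smul, neg_sub, sub_add_cancel]
    rw [← ((Submodule.quotEquivOfEq _ _ hker).trans (g.quotKerEquivOfSurjective hg)).length_eq.symm.trans
      (f.quotKerEquivOfSurjective hf).length_eq, Ring.ord]
    exact Module.length_eq_of_surjective Ideal.Quotient.mk_surjective
  · obtain ⟨c, rfl⟩ := Submodule.mem_span_singleton.mp hv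
    refine ⟨r, hr, Submodule.mem_sup_right ?_⟩
    rw [smul_comm]
    exact Submodule.smul_mem _ c (Submodule.mem_span_singleton_self _)

theorem ind_congr_sub {W : Submodule R V} {x y : V} (h : x - y ∈ W) :
    W ⊔ Submodule.span R {x} = W ⊔ Submodule.span R {y} := by
  apply le_antisymm <;> refine sup_le le_sup_left ((Submodule.span_singleton_le_iff_mem _ _).mpr ?_)
  · have := add_mem (Submodule.mem_sup_left (T := Submodule.span R {y}) h)
      (Submodule.mem_sup_right (S := W) (Submodule.mem_span_singleton_self y))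
    rwa [sub_add_cancel] at this
  · have := sub_mem (Submodule.mem_sup_right (S := W) (Submodule.mem_span_singleton_self x))
      (Submodule.mem_sup_left (T := Submodule.span R {x}) h)
    rwa [sub_sub_cancel] at this

include hq in
theorem psi_change {Λ : Submodule R V} (hΛ : IsLattice q Λ) {l : ℕ} (e e' : Adm (Localization.AtPrime q) V l)
    (a : Fin l) (c : (Localization.AtPrime q)ˣ) (h : ∀ j, j ≠ a → e.1 j = e'.1 j)
    (h' : e.1 a - (c : Localization.AtPrime q) • e'.1 a ∈ spanBefore (Localization.AtPrime q) V e.1 a)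
    (he' : NonDeg (R := Localization.AtPrime q) e'.1) :
    psi q Λ e.1 = psi q Λ e'.1 +
      CycAlg.ordFrac (R ⧸ q) q.ResidueField (residue (Localization.AtPrime q) (c : Localization.AtPrime q)) := by
  classical
  obtain ⟨n, hn⟩ := hΛ.nil
  haveI : Ring.KrullDimLE 1 (R ⧸ q) := Ring.krullDimLE_iff.mpr hq.le
  have hv : ∀ i : ℕ, vb q e.1 i = vb q e'.1 i := fun i => by
    rw [vb, vb, spanBefore_change h h']
  have hJ : ∀ i, latStep q Λ e.1 i = latStep q Λ e'.1 i := fun i => by rw [latStep, latStep, hv, hv]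
  obtain ⟨r, ⟨t, ht⟩, hrt⟩ := IsLocalization.exists_mk'_eq q.primeCompl (c : Localization.AtPrime q)
  let w : V := IsLocalization.mk' (Localization.AtPrime q) (1 : R) (⟨t, ht⟩ : q.primeCompl) • e'.1 a
  have htw : t • w = e'.1 a := by
    rw [← algebraMap_smul (Localization.AtPrime q) t, smul_smul,
      show algebraMap R (Localization.AtPrime q) t = algebraMap R (Localization.AtPrime q) ((⟨t, ht⟩ : q.primeCompl) : R) from rfl,
      mul_comm, IsLocalization.mk'_spec, map_one, one_smul]
  have hrw : r • w = (c : Localization.AtPrime q) • e'.1 a := by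
    rw [← algebraMap_smul (Localization.AtPrime q) r, smul_smul, IsLocalization.mul_mk'_eq_mk'_of_mul,
      mul_one, hrt]
  have hr : r ∉ q := by
    intro hr
    have : IsLocalization.mk' (Localization.AtPrime q) r (⟨t, ht⟩ : q.primeCompl) ∈ maximalIdeal (Localization.AtPrime q) :=
      (IsLocalization.AtPrime.mk'_mem_maximal_iff _ q r _).mpr hr
    rw [hrt] at this
    exact (mem_maximalIdeal _).mp this c.isUnit
  have hsat : ∀ s ∉ q, s • w ∉ vb q e'.1 a := fun s hs hmem => by
    have h1 := (vb q e'.1 a).smul_mem t (mem_of_smul_mem q e'.1 hs hmem)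
    rw [htw] at h1
    exact he' a h1
  have hqw : ∀ s ∈ q, s • w ∈ vb q e'.1 a := fun s hs => by
    refine mem_of_smul_mem q e'.1 ht ?_
    rw [smul_comm, htw]
    exact smul_mem_vb q e' a hs
  obtain ⟨dr, fr⟩ := dl_smul q hq hn (vb q e'.1 a) w hsat hqw r hr
  obtain ⟨dt, ft⟩ := dl_smul q hq hn (vb q e'.1 a) w hsat hqw t ht
  have hE' : stdStep q e'.1 a = vb q e'.1 a ⊔ Submodule.span R {t • w} := by rw [stdStep, htw]
  have hE : stdStep q e.1 a = vb q e'.1 a ⊔ Submodule.span R {r • w} := by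
    rw [stdStep, hv, hrw]
    exact ind_congr_sub (show e.1 a - (c : Localization.AtPrime q) • e'.1 a ∈ vb q e'.1 a from hv a ▸ h')
  have hler : ∀ s : R, vb q e'.1 a ⊔ Submodule.span R {s • w} ≤ vb q e'.1 a ⊔ Submodule.span R {w} := fun s =>
    sup_le le_sup_left ((Submodule.span_singleton_le_iff_mem _ _).mpr
      (Submodule.mem_sup_right (Submodule.smul_mem _ s (Submodule.mem_span_singleton_self w))))
  have hcommT : ∀ s : R, dl (vb q e'.1 a ⊔ Submodule.span R {s • w}) (vb q e'.1 a ⊔ Submodule.span R {w}) ≠ ⊤ →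
      Comm (vb q e'.1 a ⊔ Submodule.span R {w}) (vb q e'.1 a ⊔ Submodule.span R {s • w}) := fun s hs =>
    ⟨hs, by rw [dl_eq_zero (hler s)]; exact ENat.zero_ne_top⟩
  have hc1 := (hcommT t ft).symm
  have hc2 := hcommT r fr
  rw [← hE] at hc2
  rw [← hE'] at hc1
  have hord : residue (Localization.AtPrime q) (c : Localization.AtPrime q) =
      algebraMap (R ⧸ q) q.ResidueField (Ideal.Quotient.mk q r) /
        algebraMap (R ⧸ q) q.ResidueField (Ideal.Quotient.mk q t) := by
    rw [Ideal.algebraMap_quotient_residueField_mk, Ideal.algebraMap_quotient_residueField_mk, eq_div_iff,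
      ← hrt]
    · show residue (Localization.AtPrime q) _ * residue (Localization.AtPrime q) (algebraMap R _ t) =
        residue (Localization.AtPrime q) (algebraMap R _ r)
      rw [← map_mul, ← IsLocalization.mk'_spec (Localization.AtPrime q) r (⟨t, ht⟩ : q.primeCompl)]
    · exact fun h0 => ht (Ideal.algebraMap_residueField_eq_zero.mp h0)
  have hnz : ∀ s : R, s ∉ q → Ideal.Quotient.mk q s ∈ nonZeroDivisors (R ⧸ q) := fun s hs =>
    mem_nonZeroDivisors_of_ne_zero fun h0 => hs (Ideal.Quotient.eq_zero_iff_mem.mp h0)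
  rw [hord, H22Alg.cycOrdFrac_div q.ResidueField (hnz r hr) (hnz t ht), ← dr, ← dt]
  unfold psi
  rw [← Finset.add_sum_erase _ _ (Finset.mem_univ a), ← Finset.add_sum_erase _ _ (Finset.mem_univ a)]
  have hrest : ∀ i ∈ Finset.univ.erase a, ind (latStep q Λ e.1 i) (stdStep q e.1 i) =
      ind (latStep q Λ e'.1 i) (stdStep q e'.1 i) := fun i hi => by
    rw [hJ, stdStep, stdStep, hv, h i (Finset.ne_of_mem_erase hi)]
  rw [Finset.sum_congr rfl hrest, hJ a,
    ind_trans (comm_step q hq hΛ e'.1 a) (hc1.trans hc2), ind_trans hc1 hc2, hE, hE',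
    ind_of_le (hler r),
    ind_symm (vb q e'.1 a ⊔ Submodule.span R {w}) (vb q e'.1 a ⊔ Submodule.span R {t • w}), ind_of_le (hler t)]
  ring

include hq in
theorem psi_swap {Λ : Submodule R V} (hΛ : IsLattice q Λ) {l : ℕ} (e e' : Adm (Localization.AtPrime q) V l)
    (a b : Fin l) (hab : (b : ℕ) + 1 = a)
    (h : ∀ r ∈ maximalIdeal (Localization.AtPrime q), r • e.1 a ∈ spanBefore (Localization.AtPrime q) V e.1 b)
    (h' : e'.1 = e.1 ∘ Equiv.swap a b) (he : NonDeg (R := Localization.AtPrime q) e.1) :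
    psi q Λ e.1 = psi q Λ e'.1 := by
  classical
  obtain ⟨n, hn⟩ := hΛ.nil
  have hne : a ≠ b := fun hh => by subst hh; omega
  have he' : NonDeg (R := Localization.AtPrime q) e'.1 := h' ▸ nonDeg_swap e.1 hab h he
  have hswap : ∀ i : ℕ, i ≠ (a : ℕ) → vb q e'.1 i = vb q e.1 i := fun i hi => by
    rw [vb, vb, h', spanBefore_swap_eq e.1 hab hi]
  have h2 : ∀ r ∈ maximalIdeal (Localization.AtPrime q), r • e'.1 a ∈ spanBefore (Localization.AtPrime q) V e'.1 b := by
    rw [h']; exact admissible_congr_swap e hab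
  have key : ∀ (g : Adm (Localization.AtPrime q) V l), NonDeg (R := Localization.AtPrime q) g.1 →
      (∀ r ∈ maximalIdeal (Localization.AtPrime q), r • g.1 a ∈ spanBefore (Localization.AtPrime q) V g.1 b) →
      ind ((Λ ⊓ vb q g.1 ((a : ℕ) + 1)) ⊔ vb q g.1 b)
          (vb q g.1 b ⊔ Submodule.span R {g.1 b} ⊔ Submodule.span R {g.1 a}) =
        ind (latStep q Λ g.1 b) (stdStep q g.1 b) + ind (latStep q Λ g.1 a) (stdStep q g.1 a) := by
    intro g hg hga
    have hcomm : Comm ((Λ ⊓ vb q g.1 ((a : ℕ) + 1)) ⊔ vb q g.1 b)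
        (vb q g.1 b ⊔ Submodule.span R {g.1 b} ⊔ Submodule.span R {g.1 a}) := by
      rw [sup_comm, sup_assoc]
      refine comm_of_spans q hq hn _ (fg_inf q hΛ _)
        (Submodule.FG.sup (Submodule.fg_span_singleton _) (Submodule.fg_span_singleton _)) ?_ ?_
      · rintro v ⟨-, hv⟩
        obtain ⟨p, hp, c, rfl⟩ := (mem_vb_succ q g.1 a).mp hv
        rw [← hab] at hp
        obtain ⟨p', hp', d, rfl⟩ := (mem_vb_succ q g.1 b).mp hp
        obtain ⟨r, s, hs, hrs⟩ := exists_num q (V := V) c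
        obtain ⟨r', s', hs', hrs'⟩ := exists_num q (V := V) d
        refine ⟨s * s', fun hh => (‹q.IsPrime›.mem_or_mem hh).elim hs hs', ?_⟩
        have e1 : (s * s') • (p' + d • g.1 b + c • g.1 a) =
            (s * s') • p' + (s * r') • g.1 b + (s' * r) • g.1 a := by
          rw [smul_add, smul_add, mul_smul s s' (d • g.1 b), hrs', smul_smul, mul_comm s s',
            mul_smul s' s (c • g.1 a), hrs, smul_smul]
        rw [e1]
        exact add_mem (add_mem (Submodule.mem_sup_left ((vb q g.1 b).smul_mem _ hp'))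
          (Submodule.mem_sup_right (Submodule.mem_sup_left (Submodule.smul_mem _ _ (Submodule.mem_span_singleton_self _)))))
          (Submodule.mem_sup_right (Submodule.mem_sup_right (Submodule.smul_mem _ _ (Submodule.mem_span_singleton_self _))))
      · intro v hv
        obtain ⟨s, hs, hsv⟩ := hΛ.spans v
        refine ⟨s, hs, Submodule.mem_sup_right ⟨hsv, Submodule.smul_mem _ s ?_⟩⟩
        refine (sup_le ?_ ?_ : _ ≤ vb q g.1 ((a : ℕ) + 1)) hv <;>
          rw [Submodule.span_singleton_le_iff_mem]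
        · exact vb_mono q g.1 (by omega) (self_mem_vb q g.1 b)
        · exact self_mem_vb q g.1 a
    rw [ind_split (vb q g.1 a) hcomm]
    have hW : vb q g.1 ((b : ℕ) + 1) = vb q g.1 a := by rw [hab]
    have hba : vb q g.1 b ≤ vb q g.1 a := vb_mono q g.1 (by omega)
    congr 1
    · congr 1
      · rw [latStep, hW, sup_comm, sup_inf_assoc_of_le _ hba, inf_assoc,
          inf_eq_right.mpr (vb_mono q g.1 (Nat.le_succ (a : ℕ))), sup_comm]
      · have hle : vb q g.1 b ⊔ Submodule.span R {g.1 b} ≤ vb q g.1 a :=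
          sup_le hba ((Submodule.span_singleton_le_iff_mem _ _).mpr (hW ▸ self_mem_vb q g.1 b))
        rw [stdStep, sup_inf_assoc_of_le _ hle, sup_eq_left]
        rintro z ⟨hz, hzW⟩
        obtain ⟨r, rfl⟩ := Submodule.mem_span_singleton.mp hz
        by_cases hr : r ∈ q
        · refine Submodule.mem_sup_left ?_
          show r • g.1 a ∈ spanBefore (Localization.AtPrime q) V g.1 b
          rw [← algebraMap_smul (Localization.AtPrime q) r]
          exact hga _ ((IsLocalization.AtPrime.to_map_mem_maximal_iff _ q r).mpr hr)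
        · exact absurd (mem_of_smul_mem q g.1 hr hzW) (hg a)
    · congr 1
      · rw [latStep, sup_assoc, sup_eq_right.mpr hba]
      · rw [stdStep, sup_right_comm _ _ (vb q g.1 a), sup_eq_right.mpr (sup_le hba
          ((Submodule.span_singleton_le_iff_mem _ _).mpr (hW ▸ self_mem_vb q g.1 b)))]
  have k1 := key e he h
  have k2 := key e' he' h2
  have hL : vb q e'.1 ((a : ℕ) + 1) = vb q e.1 ((a : ℕ) + 1) := hswap _ (by omega)
  have hb0 : vb q e'.1 b = vb q e.1 b := hswap _ (by omega)
  rw [hL, hb0, show e'.1 b = e.1 a by rw [h']; simp, show e'.1 a = e.1 b by rw [h']; simp,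
    sup_right_comm] at k2
  rw [k1] at k2
  have hother : ∀ i : Fin l, i ∈ (Finset.univ.erase a).erase b →
      ind (latStep q Λ e.1 i) (stdStep q e.1 i) = ind (latStep q Λ e'.1 i) (stdStep q e'.1 i) := by
    intro i hi
    simp only [Finset.mem_erase, Finset.mem_univ, and_true] at hi
    have h1 : (i : ℕ) ≠ a := fun hh => hi.2 (Fin.ext hh)
    have h2' : (i : ℕ) + 1 ≠ a := fun hh => hi.1 (Fin.ext (by omega))
    rw [latStep, latStep, stdStep, stdStep, hswap _ h1, hswap _ h2',
      show e'.1 i = e.1 i by rw [h', Function.comp_apply, Equiv.swap_apply_of_ne_of_ne hi.2 hi.1]]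
  unfold psi
  rw [← Finset.add_sum_erase _ _ (Finset.mem_univ a), ← Finset.add_sum_erase _ _ (Finset.mem_univ a),
    ← Finset.add_sum_erase _ _ (show b ∈ Finset.univ.erase a by simp [hne.symm]),
    ← Finset.add_sum_erase (Finset.univ.erase a) _ (show b ∈ Finset.univ.erase a by simp [hne.symm]),
    Finset.sum_congr rfl hother]
  linarith

include hq in
/-- Proportional symbols differ in index by the order of the ratio. -/
theorem psi_sub_eq [IsArtinian (Localization.AtPrime q) V] [IsNoetherian (Localization.AtPrime q) V]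
    {Λ : Submodule R V} (hΛ : IsLattice q Λ) {l : ℕ}
    (hl : (l : ℕ∞) = Module.length (Localization.AtPrime q) V) (ex ey : Adm (Localization.AtPrime q) V l)
    (hx : NonDeg (R := Localization.AtPrime q) ex.1) (hy : NonDeg (R := Localization.AtPrime q) ey.1)
    (f : q.ResidueField) (h : cls ex = f • cls ey) :
    psi q Λ ex.1 - psi q Λ ey.1 = CycAlg.ordFrac (R ⧸ q) q.ResidueField f := by
  classical
  haveI : Ring.KrullDimLE 1 (R ⧸ q) := Ring.krullDimLE_iff.mpr hq.le
  obtain ⟨φ, hφ⟩ := exists_coord (Localization.AtPrime q) l V hl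
  let χ : Adm (Localization.AtPrime q) V l → ℤ := fun e =>
    psi q Λ e.1 - CycAlg.ordFrac (R ⧸ q) q.ResidueField (φ e)
  let F : Adm (Localization.AtPrime q) V l → (ℤ →₀ q.ResidueField) := fun e => Finsupp.single (χ e) (φ e)
  let Φ : Free (Localization.AtPrime q) V l →ₗ[q.ResidueField] (ℤ →₀ q.ResidueField) :=
    Finsupp.linearCombination _ F
  have hΦ : ∀ e, Φ (sym (Localization.AtPrime q) V e) = F e := fun e => by simp [Φ, sym]
  have hrel : Submodule.span q.ResidueField (relSet (Localization.AtPrime q) V l) ≤ LinearMap.ker Φ := by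
    rw [Submodule.span_le]
    rintro x ((⟨e, a, ha, rfl⟩ | ⟨e, e', a, c, h1, h2, rfl⟩) | ⟨e, e', a, b, hab, h1, h2, rfl⟩)
    · rw [SetLike.mem_coe, LinearMap.mem_ker, hΦ]
      simp [F, hφ.deg e fun hh => hh a ha]
    · rw [SetLike.mem_coe, LinearMap.mem_ker, map_sub, map_smul, hΦ, hΦ, sub_eq_zero, Finsupp.smul_single']
      by_cases he : NonDeg (R := Localization.AtPrime q) e'.1
      · have hc := hφ.change e e' a c h1 h2
        have hc0 : residue (Localization.AtPrime q) (c : Localization.AtPrime q) ≠ 0 :=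
          (residue_ne_zero_iff_isUnit _).mpr c.isUnit
        show Finsupp.single (χ e) (φ e) = Finsupp.single (χ e') _
        rw [hc]
        congr 1
        show psi q Λ e.1 - _ = psi q Λ e'.1 - _
        rw [hc, H3CAlg.Recip.ordFrac_mul (R ⧸ q) hc0 (hφ.ne_zero e' he), psi_change q hq hΛ e e' a c h1 h2 he]
        ring
      · have h0 : φ e = 0 := by rw [hφ.change e e' a c h1 h2, hφ.deg e' he, mul_zero]
        simp [F, h0, hφ.deg e' he]
    · rw [SetLike.mem_coe, LinearMap.mem_ker, map_add, hΦ, hΦ]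
      have hs := hφ.swap e e' a b hab h1 h2
      by_cases he : NonDeg (R := Localization.AtPrime q) e.1
      · have hs' : φ e' = -φ e := eq_neg_of_add_eq_zero_right hs
        have hχ : χ e' = χ e := by
          show psi q Λ e'.1 - _ = psi q Λ e.1 - _
          rw [hs', ← neg_one_mul (φ e), H3CAlg.Recip.ordFrac_mul (R ⧸ q) (by simp) (hφ.ne_zero e he),
            H3CAlg.Recip.ordFrac_neg_one, zero_add, psi_swap q hq hΛ e e' a b hab h1 h2 he]
        show Finsupp.single (χ e) (φ e) + Finsupp.single (χ e') (φ e') = 0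
        rw [hχ, ← Finsupp.single_add, hs, Finsupp.single_zero]
      · have h0 : φ e = 0 := hφ.deg e he
        rw [h0, zero_add] at hs
        simp [F, h0, hs]
  have h3 : sym (Localization.AtPrime q) V ex - f • sym (Localization.AtPrime q) V ey ∈
      Submodule.span q.ResidueField (relSet (Localization.AtPrime q) V l) :=
    (Submodule.Quotient.eq _).mp h
  have h4 := hrel h3
  rw [LinearMap.mem_ker, map_sub, map_smul, hΦ, hΦ, sub_eq_zero, Finsupp.smul_single',
    Finsupp.single_eq_single_iff] at h4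
  rcases h4 with ⟨hχ, hφe⟩ | ⟨h0, -⟩
  swap
  · exact absurd h0 (hφ.ne_zero ex hx)
  have hf : f ≠ 0 := fun h0 => hφ.ne_zero ex hx (by rw [hφe, h0, zero_mul])
  simp only [χ, hφe, H3CAlg.Recip.ordFrac_mul (R ⧸ q) hf (hφ.ne_zero ey hy)] at hχ
  linarith

/-- The index of a lattice relative to a tuple adapted to a sublattice. -/
theorem psi_eq_dl {Λ Λ' : Submodule R V} (hle : Λ' ≤ Λ) {l : ℕ} (e : Fin l → V)
    (hbot : Λ ⊓ vb q e 0 ≤ Λ') (htop : vb q e l = ⊤)
    (hstep : ∀ i : Fin l, stdStep q e i = (Λ' ⊓ vb q e ((i : ℕ) + 1)) ⊔ vb q e i)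
    (hfin : dl Λ' Λ ≠ ⊤) : psi q Λ e = ((dl Λ' Λ).toNat : ℤ) := by
  classical
  let g : ℕ → ℤ := fun i => if h : i < l then ind (latStep q Λ e ⟨i, h⟩) (stdStep q e ⟨i, h⟩) else 0
  have key : ∀ k ≤ l, dl (Λ' ⊓ vb q e k) (Λ ⊓ vb q e k) ≠ ⊤ ∧
      ((dl (Λ' ⊓ vb q e k) (Λ ⊓ vb q e k)).toNat : ℤ) = ∑ i ∈ Finset.range k, g i := by
    intro k hk
    induction k with
    | zero => simp [dl_eq_zero (le_inf hbot inf_le_right)]
    | succ k ih =>
      obtain ⟨i1, i2⟩ := ih (Nat.le_of_succ_le hk)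
      have hmono : vb q e k ≤ vb q e (k + 1) := vb_mono q e (Nat.le_succ k)
      have hs := dl_split (vb q e k) (inf_le_inf_right (vb q e (k + 1)) hle)
      rw [inf_assoc, inf_eq_right.mpr hmono, inf_assoc, inf_eq_right.mpr hmono] at hs
      have hlt : dl (Λ' ⊓ vb q e (k + 1)) (Λ ⊓ vb q e (k + 1)) ≠ ⊤ := by
        have h1 := dl_split (vb q e (k + 1)) hle
        rw [h1, add_ne_top'] at hfin
        exact hfin.1
      refine ⟨hlt, ?_⟩
      rw [hs, add_ne_top'] at hlt
      rw [hs, ENat.toNat_add hlt.1 hlt.2, Nat.cast_add, i2, Finset.sum_range_succ]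
      congr 1
      simp only [g, dif_pos (show k < l from hk)]
      have hJ : stdStep q e ⟨k, hk⟩ ≤ latStep q Λ e ⟨k, hk⟩ := by
        rw [hstep]; exact sup_le_sup_right (inf_le_inf_right _ hle) _
      rw [ind_of_le hJ, hstep]
      rfl
  have h2 := (key l le_rfl).2
  rw [htop, inf_top_eq, inf_top_eq, ← Fin.sum_univ_eq_sum_range] at h2
  rw [h2, psi]
  refine Finset.sum_congr rfl fun i _ => ?_
  simp [g]

end Groth.Agent.H11CycDet
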